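import Cfsg.Agent.Spor.Cert
import Cfsg.Agent.Spor.HYg.C0
import Cfsg.Agent.Spor.HYg.C1
import Cfsg.Agent.Spor.HYg.C2

set_option autoImplicit false
set_option maxRecDepth 100000000
set_option Elab.async false
set_option linter.unusedSectionVars false

namespace Cfsg.Agent.Spor.HYg

theorem hT : T.Ok 13 := T.ok_of 13 (show AllP (fun n => Net.okb 13 n = true) [n0, n1, n2, n3, n4, n5] from AllP.cons ok0 (AllP.cons ok1 (AllP.cons ok2 (AllP.cons ok3 (AllP.cons ok4 (AllP.cons ok5 (AllP.nil)))))))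

noncomputable def fP : ℕ → Equiv.Perm ℕ := T.fP gs

theorem hsq : ∀ j < 6, j < 6 → T.fP gs j * T.fP gs j = 1 :=
  Tab.sq (show AllP (fun z => evA T.τ [z, z] = 1) [1, 2, 3, 4, 5, 6] from AllP.cons (hT.one rel0) (AllP.cons (hT.one rel1) (AllP.cons (hT.one rel2) (AllP.cons (hT.one rel3) (AllP.cons (hT.one rel4) (AllP.cons (hT.one rel5) (AllP.nil))))))) 6 rfl

theorem hiv : IvOk (2 * 6) (atm 6 (T.fP gs)) := ivOk_atm hsq

theorem pz1 : PZ T (atm 6 (T.fP gs)) EX 1 := PZ.of_atom (y := 2 * 0) (by decide +kernel) (atm_two_mul _ (by decide))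
theorem pz2 : PZ T (atm 6 (T.fP gs)) EX 2 := PZ.of_atom (y := 2 * 1) (by decide +kernel) (atm_two_mul _ (by decide))
theorem pz3 : PZ T (atm 6 (T.fP gs)) EX 3 := PZ.of_atom (y := 2 * 2) (by decide +kernel) (atm_two_mul _ (by decide))
theorem pz4 : PZ T (atm 6 (T.fP gs)) EX 4 := PZ.of_atom (y := 2 * 3) (by decide +kernel) (atm_two_mul _ (by decide))
theorem pz5 : PZ T (atm 6 (T.fP gs)) EX 5 := PZ.of_atom (y := 2 * 4) (by decide +kernel) (atm_two_mul _ (by decide))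
theorem pz6 : PZ T (atm 6 (T.fP gs)) EX 6 := PZ.of_atom (y := 2 * 5) (by decide +kernel) (atm_two_mul _ (by decide))
theorem hPZ : AllP (PZ T (atm 6 (T.fP gs)) EX) L :=
  show AllP (PZ T (atm 6 (T.fP gs)) EX) [1, 2, 3, 4, 5, 6] from AllP.cons pz1 (AllP.cons pz2 (AllP.cons pz3 (AllP.cons pz4 (AllP.cons pz5 (AllP.cons pz6 (AllP.nil))))))

theorem hrel : ∀ l ∈ RL, ev (atm 6 (T.fP gs)) l = 1 :=
  relAll_sound hiv (W := [[2, 1, 2, 1, 2, 1, 2, 1], [3, 2, 3, 2, 3, 2, 3, 2], [2, 3, 1, 2, 3, 1, 3, 2, 1, 3, 2, 1], [3, 1, 2, 3, 2, 1, 3, 1, 2, 3, 2, 1], [4, 1, 4, 1, 4, 1], [5, 2, 5, 2, 5, 2], [6, 3, 1, 3, 6, 3, 1, 3, 6, 3, 1, 3], [2, 3, 4, 3, 2, 4], [1, 2, 3, 2, 1, 3, 4, 1, 3, 1, 4], [3, 1, 2, 1, 3, 4, 2, 1, 2, 1, 4], [3, 2, 5, 3, 2, 5], [1, 2, 1, 2, 5, 1, 5], [3, 1, 3, 1, 3, 1, 3, 6, 1, 6], [1, 3, 2, 3, 6, 1, 3, 2, 3, 6], [1, 2, 1, 6, 3, 2, 1, 2, 1, 3, 6], [5, 4, 1, 5, 4, 1, 5, 4, 1,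 5, 4, 1, 5, 4, 1, 5, 4, 1, 5, 4, 1], [5, 4, 5, 4, 2, 1, 5, 4, 5, 4, 2, 1, 5, 4, 5, 4, 2, 1, 5, 4, 5, 4, 2, 1, 5, 4, 5, 4, 2, 1, 5, 4, 5, 4, 2, 1, 5, 4, 5, 4, 2, 1], [6, 5, 6, 5, 6, 5, 6, 5, 6, 5], [2, 6, 5, 6, 5, 2, 6, 5, 6, 5, 2, 6, 5, 6, 5, 2, 6, 5, 6, 5, 2, 6, 5, 6, 5], [1, 3, 1, 3, 1, 3, 1, 3, 6, 4, 6, 4]]) (rules := [⟨[2, 1, 2, 1, 2, 1, 2, 1], [], 0, true⟩, ⟨[3, 2, 3, 2, 3, 2, 3, 2], [], 1, true⟩, ⟨[2, 3, 1, 2, 3, 1, 3, 2, 1, 3, 2, 1], [], 2, true⟩, ⟨[3, 1, 2, 3, 2, 1, 3, 1, 2, 3, 2, 1], [], 3, true⟩, ⟨[4, 1, 4, 1, 4, 1], [], 4, true⟩, ⟨[5, 2, 5, 2, 5, 2], [], 5, true⟩, ⟨[6, 3, 1, 3, 6, 3, 1, 3, 6, 3, 1, 3], [], 6, true⟩, ⟨[2, 3, 4, 3, 2, 4], [], 7, true⟩, ⟨[1, 2, 3, 2, 1, 3, 4, 1, 3, 1, 4], [], 8, true⟩, ⟨[3, 1, 2, 1, 3, 4, 2, 1, 2, 1, 4], [], 9, true⟩, ⟨[3, 2, 5, 3, 2, 5], [], 10, true⟩, ⟨[1, 2, 1, 2, 5, 1, 5], [], 11, true⟩, ⟨[3, 1, 3, 1, 3, 1, 3, 6, 1, 6], [], 12,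 true⟩, ⟨[1, 3, 2, 3, 6, 1, 3, 2, 3, 6], [], 13, true⟩, ⟨[1, 2, 1, 6, 3, 2, 1, 2, 1, 3, 6], [], 14, true⟩, ⟨[5, 4, 1, 5, 4, 1, 5, 4, 1, 5, 4, 1, 5, 4, 1, 5, 4, 1, 5, 4, 1], [], 15, true⟩, ⟨[5, 4, 5, 4, 2, 1, 5, 4, 5, 4, 2, 1, 5, 4, 5, 4, 2, 1, 5, 4, 5, 4, 2, 1, 5, 4, 5, 4, 2, 1, 5, 4, 5, 4, 2, 1, 5, 4, 5, 4, 2, 1], [], 16, true⟩, ⟨[6, 5, 6, 5, 6, 5, 6, 5, 6, 5], [], 17, true⟩, ⟨[2, 6, 5, 6, 5, 2, 6, 5, 6, 5, 2, 6, 5, 6, 5, 2, 6, 5, 6, 5, 2, 6, 5, 6, 5], [], 18, true⟩, ⟨[1, 3, 1, 3, 1, 3, 1, 3, 6, 4, 6, 4], [], 19, true⟩]) hPZ (AllP.cons (hT.one rel6) (AllP.cons (hT.one rel7) (AllP.cons (hT.one rel8) (AllP.cons (hT.one rel9) (AllP.cons (hT.one rel10) (AllP.cons (hT.one rel11) (AllP.cons (hT.one rel12) (AllP.cons (hT.one rel13) (AllP.cons (hT.one rel14) (AllP.cons (hT.one rel15) (AllP.cons (hT.one rel16) (AllP.cons (hT.one rel17) (AllP.cons (hT.one rel18) (AllP.cons (hT.one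 rel19) (AllP.cons (hT.one rel20) (AllP.cons (hT.one rel21) (AllP.cons (hT.one rel22) (AllP.cons (hT.one rel23) (AllP.cons (hT.one rel24) (AllP.cons (hT.one rel25) (AllP.nil))))))))))))))))))))) (by decide +kernel)

theorem xrel : ∀ l ∈ XL, ev (atm 6 (T.fP gs)) l = 1 :=
  relAll_sound hiv (W := [[3, 3], [5, 1, 3, 5, 6, 5, 3, 6, 5, 4, 6, 3, 6, 5, 2, 1, 5, 1, 3, 5, 6, 5, 3, 6, 5, 4, 6, 3, 6, 5, 2, 1], [6, 1, 6, 1, 6, 1, 6, 1], [2, 6, 4, 2, 4, 1, 2, 2, 6, 4, 2, 4, 1, 2], [3, 2, 1, 3, 1, 2, 3, 2, 1, 3, 1, 2], [3, 6, 1, 6, 1, 3, 6, 1, 6, 1], [3, 5, 1, 3, 5, 6, 5, 3, 6, 5, 4, 6, 3, 6, 5, 2, 1, 3, 5, 1, 3, 5, 6, 5, 3, 6, 5, 4, 6, 3, 6, 5, 2, 1, 3, 5, 1, 3, 5, 6, 5, 3, 6, 5, 4, 6, 3, 6, 5, 2, 1, 3, 5, 1, 3, 5, 6, 5, 3, 6, 5, 4, 6, 3, 6, 5, 2, 1], [3, 5, 1, 3, 5, 6, 5, 3, 6, 5, 4, 6, 3, 6, 5, 2, 1, 6, 1, 6, 1, 5, 1, 3, 5, 6, 5, 3, 6, 5, 4, 6, 3, 6, 5, 2, 1, 6, 1, 6, 1, 5, 1, 3, 5,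 6, 5, 3, 6, 5, 4, 6, 3, 6, 5, 2, 1, 3, 5, 1, 3, 5, 6, 5, 3, 6, 5, 4, 6, 3, 6, 5, 2, 1, 6, 1, 6, 1, 5, 1, 3, 5, 6, 5, 3, 6, 5, 4, 6, 3, 6, 5, 2, 1, 6, 1, 6, 1, 5, 1, 3, 5, 6, 5, 3, 6, 5, 4, 6, 3, 6, 5, 2, 1, 3, 6, 1, 6, 1, 5, 1, 3, 5, 6, 5, 3, 6, 5, 4, 6, 3, 6, 5, 2, 1, 6, 1, 6, 1, 5, 1, 3, 5, 6, 5, 3, 6, 5, 4, 6, 3, 6, 5, 2, 1, 6, 1, 6, 1, 5, 1, 3, 5, 6, 5, 3, 6, 5, 4, 6, 3, 6, 5, 2, 1, 3, 5, 1, 3, 5, 6, 5, 3, 6, 5, 4, 6, 3, 6, 5, 2, 1, 6, 1, 6, 1, 5, 1, 3, 5, 6, 5, 3, 6, 5, 4, 6, 3, 6, 5, 2, 1, 6, 1, 6, 1, 5, 1, 3, 5, 6, 5, 3, 6, 5, 4, 6, 3, 6, 5, 2, 1], [3, 5, 1, 3, 5, 6, 5, 3, 6, 5, 4, 6, 3, 6, 5, 2, 1, 3, 5, 1, 3, 5, 6, 5, 3, 6, 5, 4, 6, 3, 6, 5, 2, 1, 6, 1, 6, 1, 5, 1, 3, 5, 6, 5, 3, 6, 5, 4, 6, 3, 6, 5, 2, 1, 3, 5, 1, 3, 5, 6, 5, 3, 6, 5, 4, 6, 3, 6, 5, 2, 1, 6, 1, 6, 1, 5, 1, 3, 5, 6, 5, 3, 6, 5, 4, 6, 3, 6, 5, 2, 1, 3, 5, 1, 3, 5, 6, 5, 3, 6, 5, 4, 6, 3, 6, 5, 2,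 1, 6, 1, 6, 1, 5, 1, 3, 5, 6, 5, 3, 6, 5, 4, 6, 3, 6, 5, 2, 1, 3, 5, 1, 3, 5, 6, 5, 3, 6, 5, 4, 6, 3, 6, 5, 2, 1, 6, 1, 6, 1, 5, 1, 3, 5, 6, 5, 3, 6, 5, 4, 6, 3, 6, 5, 2, 1, 3, 5, 1, 3, 5, 6, 5, 3, 6, 5, 4, 6, 3, 6, 5, 2, 1, 6, 1, 6, 1], [6, 1, 6, 1, 2, 6, 4, 2, 4, 1, 2, 6, 1, 6, 1, 2, 6, 4, 2, 4, 1, 2], [5, 1, 3, 5, 6, 5, 3, 6, 5, 4, 6, 3, 6, 5, 2, 1, 2, 6, 4, 2, 4, 1, 2, 5, 1, 3, 5, 6, 5, 3, 6, 5, 4, 6, 3, 6, 5, 2, 1, 2, 6, 4, 2, 4, 1, 2, 5, 1, 3, 5, 6, 5, 3, 6, 5, 4, 6, 3, 6, 5, 2, 1, 2, 6, 4, 2, 4, 1, 2], [2, 6, 4, 2, 4, 1, 2, 3, 5, 1, 3, 5, 6, 5, 3, 6, 5, 4, 6, 3, 6, 5, 2, 1, 3, 5, 1, 3, 5, 6, 5, 3, 6, 5, 4, 6, 3, 6, 5, 2, 1, 2, 6, 4, 2, 4, 1, 2, 5, 1, 3, 5, 6, 5, 3, 6, 5, 4, 6, 3, 6, 5, 2, 1, 3, 5, 1, 3, 5, 6, 5, 3, 6, 5, 4, 6, 3, 6, 5, 2, 1, 3], [5, 1, 3, 5, 6, 5, 3, 6, 5, 4, 6, 3, 6, 5, 2, 1, 6, 1, 6, 1, 5, 1, 3, 5, 6, 5, 3, 6, 5, 4, 6, 3, 6, 5, 2, 1, 6, 1, 6, 1,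 2, 6, 4, 2, 4, 1, 2, 5, 1, 3, 5, 6, 5, 3, 6, 5, 4, 6, 3, 6, 5, 2, 1, 6, 1, 6, 1, 2, 6, 4, 2, 4, 1, 2, 5, 1, 3, 5, 6, 5, 3, 6, 5, 4, 6, 3, 6, 5, 2, 1, 6, 1, 6, 1, 5, 1, 3, 5, 6, 5, 3, 6, 5, 4, 6, 3, 6, 5, 2, 1, 2, 6, 4, 2, 4, 1, 2], [2, 6, 4, 2, 4, 1, 2, 3, 2, 6, 4, 2, 4, 1, 2, 3, 2, 6, 4, 2, 4, 1, 2, 3, 2, 6, 4, 2, 4, 1, 2, 3, 2, 6, 4, 2, 4, 1, 2, 3], [6, 1, 6, 1, 3, 2, 1, 3, 1, 2, 6, 1, 6, 1, 3, 2, 1, 3, 1, 2], [3, 3, 2, 1, 3, 1, 2, 3, 3, 2, 1, 3, 1, 2], [5, 1, 3, 5, 6, 5, 3, 6, 5, 4, 6, 3, 6, 5, 2, 1, 3, 2, 1, 3, 1, 2, 5, 1, 3, 5, 6, 5, 3, 6, 5, 4, 6, 3, 6, 5, 2, 1, 3, 2, 1, 3, 1, 2], [3, 2, 1, 3, 1, 2, 2, 6, 4, 2, 4, 1, 2, 3, 5, 1, 3, 5, 6, 5, 3, 6, 5, 4, 6, 3, 6, 5, 2, 1, 2, 6, 4, 2, 4, 1, 2, 3, 5, 1, 3, 5, 6, 5, 3, 6, 5, 4, 6, 3, 6, 5, 2, 1, 3, 2, 1, 3, 1, 2, 2, 6, 4, 2, 4, 1, 2, 5, 1, 3, 5, 6, 5, 3, 6, 5, 4, 6, 3, 6, 5, 2, 1, 3, 2, 6, 4, 2, 4, 1, 2, 3, 2, 1, 3, 1, 2,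 3, 5, 1, 3, 5, 6, 5, 3, 6, 5, 4, 6, 3, 6, 5, 2, 1, 2, 6, 4, 2, 4, 1, 2, 5, 1, 3, 5, 6, 5, 3, 6, 5, 4, 6, 3, 6, 5, 2, 1, 3, 2, 6, 4, 2, 4, 1, 2, 5, 1, 3, 5, 6, 5, 3, 6, 5, 4, 6, 3, 6, 5, 2, 1, 3], [2, 6, 4, 2, 4, 1, 2, 3, 2, 1, 3, 1, 2, 2, 6, 4, 2, 4, 1, 2, 3, 2, 1, 3, 1, 2, 2, 6, 4, 2, 4, 1, 2, 3, 2, 1, 3, 1, 2]]) (rules := [⟨[3, 3], [], 0, true⟩, ⟨[5, 1, 3, 5, 6, 5, 3, 6, 5, 4, 6, 3, 6, 5, 2, 1, 5, 1, 3, 5, 6, 5, 3, 6, 5, 4, 6, 3, 6, 5, 2, 1], [], 1, true⟩, ⟨[6, 1, 6, 1, 6, 1, 6, 1], [], 2, true⟩, ⟨[2, 6, 4, 2, 4, 1, 2, 2, 6, 4, 2, 4, 1, 2], [], 3, true⟩, ⟨[3, 2, 1, 3, 1, 2, 3, 2, 1, 3, 1, 2], [], 4, true⟩, ⟨[3, 6, 1, 6, 1, 3, 6, 1, 6, 1], [], 5, true⟩, ⟨[3, 5, 1, 3, 5, 6, 5, 3, 6, 5, 4, 6, 3, 6, 5, 2, 1, 3, 5, 1, 3, 5, 6, 5, 3, 6, 5, 4, 6, 3, 6, 5, 2, 1, 3, 5, 1, 3, 5, 6, 5, 3, 6, 5, 4, 6, 3, 6, 5, 2, 1, 3, 5, 1, 3, 5, 6, 5, 3, 6, 5, 4, 6, 3, 6, 5, 2, 1], [], 6, true⟩,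 ⟨[3, 5, 1, 3, 5, 6, 5, 3, 6, 5, 4, 6, 3, 6, 5, 2, 1, 6, 1, 6, 1, 5, 1, 3, 5, 6, 5, 3, 6, 5, 4, 6, 3, 6, 5, 2, 1, 6, 1, 6, 1, 5, 1, 3, 5, 6, 5, 3, 6, 5, 4, 6, 3, 6, 5, 2, 1, 3, 5, 1, 3, 5, 6, 5, 3, 6, 5, 4, 6, 3, 6, 5, 2, 1, 6, 1, 6, 1, 5, 1, 3, 5, 6, 5, 3, 6, 5, 4, 6, 3, 6, 5, 2, 1, 6, 1, 6, 1, 5, 1, 3, 5, 6, 5, 3, 6, 5, 4, 6, 3, 6, 5, 2, 1, 3, 6, 1, 6, 1, 5, 1, 3, 5, 6, 5, 3, 6, 5, 4, 6, 3, 6, 5, 2, 1, 6, 1, 6, 1, 5, 1, 3, 5, 6, 5, 3, 6, 5, 4, 6, 3, 6, 5, 2, 1, 6, 1, 6, 1, 5, 1, 3, 5, 6, 5, 3, 6, 5, 4, 6, 3, 6, 5, 2, 1, 3, 5, 1, 3, 5, 6, 5, 3, 6, 5, 4, 6, 3, 6, 5, 2, 1, 6, 1, 6, 1, 5, 1, 3, 5, 6, 5, 3, 6, 5, 4, 6, 3, 6, 5, 2, 1, 6, 1, 6, 1, 5, 1, 3, 5, 6, 5, 3, 6, 5, 4, 6, 3, 6, 5, 2, 1], [], 7, true⟩, ⟨[3, 5, 1, 3, 5, 6, 5, 3, 6, 5, 4, 6, 3, 6, 5, 2, 1, 3, 5, 1, 3, 5, 6, 5, 3, 6, 5, 4, 6, 3, 6, 5, 2, 1, 6, 1, 6, 1, 5, 1, 3, 5, 6, 5, 3, 6, 5, 4, 6, 3, 6, 5, 2, 1, 3, 5, 1,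 3, 5, 6, 5, 3, 6, 5, 4, 6, 3, 6, 5, 2, 1, 6, 1, 6, 1, 5, 1, 3, 5, 6, 5, 3, 6, 5, 4, 6, 3, 6, 5, 2, 1, 3, 5, 1, 3, 5, 6, 5, 3, 6, 5, 4, 6, 3, 6, 5, 2, 1, 6, 1, 6, 1, 5, 1, 3, 5, 6, 5, 3, 6, 5, 4, 6, 3, 6, 5, 2, 1, 3, 5, 1, 3, 5, 6, 5, 3, 6, 5, 4, 6, 3, 6, 5, 2, 1, 6, 1, 6, 1, 5, 1, 3, 5, 6, 5, 3, 6, 5, 4, 6, 3, 6, 5, 2, 1, 3, 5, 1, 3, 5, 6, 5, 3, 6, 5, 4, 6, 3, 6, 5, 2, 1, 6, 1, 6, 1], [], 8, true⟩, ⟨[6, 1, 6, 1, 2, 6, 4, 2, 4, 1, 2, 6, 1, 6, 1, 2, 6, 4, 2, 4, 1, 2], [], 9, true⟩, ⟨[5, 1, 3, 5, 6, 5, 3, 6, 5, 4, 6, 3, 6, 5, 2, 1, 2, 6, 4, 2, 4, 1, 2, 5, 1, 3, 5, 6, 5, 3, 6, 5, 4, 6, 3, 6, 5, 2, 1, 2, 6, 4, 2, 4, 1, 2, 5, 1, 3, 5, 6, 5, 3, 6, 5, 4, 6, 3, 6, 5, 2, 1, 2, 6, 4, 2, 4, 1, 2], [], 10, true⟩, ⟨[2, 6, 4, 2, 4, 1, 2, 3, 5, 1, 3, 5, 6, 5, 3, 6, 5, 4, 6, 3, 6, 5, 2, 1, 3, 5, 1, 3, 5, 6, 5, 3, 6, 5, 4, 6, 3, 6, 5, 2, 1, 2, 6, 4, 2, 4, 1, 2, 5, 1, 3, 5, 6, 5, 3, 6, 5, 4,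 6, 3, 6, 5, 2, 1, 3, 5, 1, 3, 5, 6, 5, 3, 6, 5, 4, 6, 3, 6, 5, 2, 1, 3], [], 11, true⟩, ⟨[5, 1, 3, 5, 6, 5, 3, 6, 5, 4, 6, 3, 6, 5, 2, 1, 6, 1, 6, 1, 5, 1, 3, 5, 6, 5, 3, 6, 5, 4, 6, 3, 6, 5, 2, 1, 6, 1, 6, 1, 2, 6, 4, 2, 4, 1, 2, 5, 1, 3, 5, 6, 5, 3, 6, 5, 4, 6, 3, 6, 5, 2, 1, 6, 1, 6, 1, 2, 6, 4, 2, 4, 1, 2, 5, 1, 3, 5, 6, 5, 3, 6, 5, 4, 6, 3, 6, 5, 2, 1, 6, 1, 6, 1, 5, 1, 3, 5, 6, 5, 3, 6, 5, 4, 6, 3, 6, 5, 2, 1, 2, 6, 4, 2, 4, 1, 2], [], 12, true⟩, ⟨[2, 6, 4, 2, 4, 1, 2, 3, 2, 6, 4, 2, 4, 1, 2, 3, 2, 6, 4, 2, 4, 1, 2, 3, 2, 6, 4, 2, 4, 1, 2, 3, 2, 6, 4, 2, 4, 1, 2, 3], [], 13, true⟩, ⟨[6, 1, 6, 1, 3, 2, 1, 3, 1, 2, 6, 1, 6, 1, 3, 2, 1, 3, 1, 2], [], 14, true⟩, ⟨[3, 3, 2, 1, 3, 1, 2, 3, 3, 2, 1, 3, 1, 2], [], 15, true⟩, ⟨[5, 1, 3, 5, 6, 5, 3, 6, 5, 4, 6, 3, 6, 5, 2, 1, 3, 2, 1, 3, 1, 2, 5, 1, 3, 5, 6, 5, 3, 6, 5, 4, 6, 3, 6, 5, 2, 1, 3, 2, 1, 3, 1, 2], [], 16, true⟩, ⟨[3,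 2, 1, 3, 1, 2, 2, 6, 4, 2, 4, 1, 2, 3, 5, 1, 3, 5, 6, 5, 3, 6, 5, 4, 6, 3, 6, 5, 2, 1, 2, 6, 4, 2, 4, 1, 2, 3, 5, 1, 3, 5, 6, 5, 3, 6, 5, 4, 6, 3, 6, 5, 2, 1, 3, 2, 1, 3, 1, 2, 2, 6, 4, 2, 4, 1, 2, 5, 1, 3, 5, 6, 5, 3, 6, 5, 4, 6, 3, 6, 5, 2, 1, 3, 2, 6, 4, 2, 4, 1, 2, 3, 2, 1, 3, 1, 2, 3, 5, 1, 3, 5, 6, 5, 3, 6, 5, 4, 6, 3, 6, 5, 2, 1, 2, 6, 4, 2, 4, 1, 2, 5, 1, 3, 5, 6, 5, 3, 6, 5, 4, 6, 3, 6, 5, 2, 1, 3, 2, 6, 4, 2, 4, 1, 2, 5, 1, 3, 5, 6, 5, 3, 6, 5, 4, 6, 3, 6, 5, 2, 1, 3], [], 17, true⟩, ⟨[2, 6, 4, 2, 4, 1, 2, 3, 2, 1, 3, 1, 2, 2, 6, 4, 2, 4, 1, 2, 3, 2, 1, 3, 1, 2, 2, 6, 4, 2, 4, 1, 2, 3, 2, 1, 3, 1, 2], [], 18, true⟩]) hPZ (AllP.cons (hT.one rel2) (AllP.cons (hT.one rel26) (AllP.cons (hT.one rel27) (AllP.cons (hT.one rel28) (AllP.cons (hT.one rel29) (AllP.cons (hT.one rel30) (AllP.cons (hT.one rel31) (AllP.cons (hT.one rel32) (AllP.cons (hT.one rel33) (AllP.cons (hT.one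 rel34) (AllP.cons (hT.one rel35) (AllP.cons (hT.one rel36) (AllP.cons (hT.one rel37) (AllP.cons (hT.one rel38) (AllP.cons (hT.one rel39) (AllP.cons (hT.one rel40) (AllP.cons (hT.one rel41) (AllP.cons (hT.one rel42) (AllP.cons (hT.one rel43) (AllP.nil)))))))))))))))))))) (by decide +kernel)

theorem hst : StepsOk F IV RT base 102072 227395 := (StepsOk.trans (StepsOk.trans (StepsOk.trans (StepsOk.trans (StepsOk.trans (StepsOk.trans (StepsOk.trans (StepsOk.trans (StepsOk.trans (StepsOk.trans (StepsOk.trans (StepsOk.trans (StepsOk.trans (StepsOk.trans (StepsOk.trans (StepsOk.trans (StepsOk.trans (StepsOk.trans (StepsOk.trans (StepsOk.trans (StepsOk.trans (StepsOk.trans (StepsOk.trans (StepsOk.trans (StepsOk.trans (StepsOk.trans (StepsOk.trans (StepsOk.trans (StepsOk.trans (StepsOk.trans (StepsOk.trans (StepsOk.trans (StepsOk.trans (StepsOk.trans (StepsOk.trans (StepsOk.trans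 (StepsOk.trans (StepsOk.trans (StepsOk.trans (StepsOk.trans (StepsOk.trans (StepsOk.trans (StepsOk.trans (StepsOk.trans (StepsOk.trans (StepsOk.trans (StepsOk.trans (StepsOk.trans (StepsOk.trans (StepsOk.trans (StepsOk.trans (StepsOk.trans (StepsOk.trans (StepsOk.trans (StepsOk.trans (StepsOk.trans (StepsOk.trans (StepsOk.trans (StepsOk.trans (StepsOk.trans (StepsOk.trans (StepsOk.trans (StepsOk.trans (StepsOk.trans (StepsOk.trans (StepsOk.trans (StepsOk.trans (StepsOk.trans (StepsOk.trans (StepsOk.trans (StepsOk.trans (StepsOk.trans (StepsOk.trans (StepsOk.trans (StepsOk.trans (StepsOk.trans (StepsOk.trans (StepsOk.trans (StepsOk.trans (StepsOk.trans (StepsOk.trans (StepsOk.trans (StepsOk.trans (StepsOk.trans (StepsOk.trans (StepsOk.trans (StepsOk.trans (StepsOk.trans (StepsOk.trans (StepsOk.trans (StepsOk.trans (StepsOk.trans (StepsOk.trans (StepsOk.trans (StepsOk.trans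 (StepsOk.trans (StepsOk.trans (StepsOk.trans (StepsOk.trans (StepsOk.trans (StepsOk.trans (StepsOk.trans (StepsOk.trans (StepsOk.trans (StepsOk.trans (StepsOk.trans (StepsOk.trans (StepsOk.trans (StepsOk.trans (StepsOk.trans (StepsOk.trans (StepsOk.trans (StepsOk.trans (StepsOk.trans (StepsOk.trans (StepsOk.trans (StepsOk.trans (StepsOk.trans (StepsOk.trans (StepsOk.trans (StepsOk.trans (StepsOk.trans (StepsOk.trans (StepsOk.trans (StepsOk.trans (StepsOk.trans (StepsOk.trans (StepsOk.trans (StepsOk.trans (StepsOk.trans (StepsOk.trans (StepsOk.trans (StepsOk.trans (StepsOk.trans (StepsOk.trans (StepsOk.trans (StepsOk.trans (StepsOk.trans (StepsOk.trans (StepsOk.trans (StepsOk.trans (StepsOk.trans (StepsOk.trans (StepsOk.trans (StepsOk.trans (StepsOk.trans (StepsOk.trans (StepsOk.trans (StepsOk.trans (StepsOk.trans (StepsOk.trans (StepsOk.trans (StepsOk.trans (StepsOk.trans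 (StepsOk.trans (StepsOk.trans (StepsOk.trans (StepsOk.trans (StepsOk.trans (StepsOk.trans (StepsOk.trans (StepsOk.trans (StepsOk.trans (StepsOk.trans (StepsOk.trans (StepsOk.trans (StepsOk.trans (StepsOk.trans (StepsOk.trans (StepsOk.trans (StepsOk.trans (StepsOk.trans (StepsOk.trans (StepsOk.trans (StepsOk.trans (StepsOk.trans (StepsOk.trans (StepsOk.trans (StepsOk.trans (StepsOk.trans (StepsOk.trans (StepsOk.trans (StepsOk.trans (StepsOk.trans (StepsOk.trans (StepsOk.trans (StepsOk.trans (StepsOk.trans (StepsOk.trans (StepsOk.trans (StepsOk.trans (StepsOk.trans (StepsOk.trans (StepsOk.trans (StepsOk.trans (StepsOk.trans (StepsOk.trans (StepsOk.trans (StepsOk.trans (StepsOk.trans (StepsOk.trans (StepsOk.trans (StepsOk.trans (StepsOk.trans (StepsOk.trans (StepsOk.trans (StepsOk.trans (StepsOk.trans (StepsOk.trans (StepsOk.trans (StepsOk.trans (StepsOk.trans (StepsOk.trans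 (StepsOk.trans (StepsOk.trans (StepsOk.trans (StepsOk.trans (StepsOk.trans (StepsOk.trans (StepsOk.trans (StepsOk.trans (StepsOk.trans (StepsOk.trans (StepsOk.trans (StepsOk.trans (StepsOk.trans (StepsOk.trans (StepsOk.trans (StepsOk.trans (StepsOk.trans (StepsOk.trans (StepsOk.trans (StepsOk.trans (StepsOk.trans (StepsOk.trans (StepsOk.trans (StepsOk.trans (StepsOk.trans (StepsOk.trans (StepsOk.trans (StepsOk.trans (StepsOk.trans (StepsOk.trans (StepsOk.trans (StepsOk.trans (StepsOk.trans (StepsOk.trans (StepsOk.trans (StepsOk.trans (StepsOk.trans (StepsOk.trans (StepsOk.trans (StepsOk.trans (StepsOk.trans (StepsOk.trans (StepsOk.trans (StepsOk.trans (StepsOk.trans (StepsOk.trans (StepsOk.trans (StepsOk.trans (StepsOk.trans (StepsOk.trans (StepsOk.trans (StepsOk.trans (StepsOk.trans (StepsOk.trans (StepsOk.trans (StepsOk.trans (StepsOk.trans (StepsOk.trans (StepsOk.trans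 (StepsOk.trans (StepsOk.trans (StepsOk.trans (StepsOk.trans (StepsOk.trans (StepsOk.trans (StepsOk.trans (StepsOk.trans (StepsOk.trans (StepsOk.trans (StepsOk.trans (StepsOk.trans (StepsOk.trans (StepsOk.trans (StepsOk.trans (StepsOk.trans (StepsOk.trans (StepsOk.trans (StepsOk.trans (StepsOk.trans (StepsOk.trans (StepsOk.trans (StepsOk.trans (StepsOk.trans (StepsOk.trans (StepsOk.trans (StepsOk.trans (StepsOk.trans (StepsOk.trans (StepsOk.trans (StepsOk.trans (StepsOk.trans (StepsOk.trans (StepsOk.trans (StepsOk.trans (StepsOk.trans (StepsOk.trans (StepsOk.trans (StepsOk.trans (StepsOk.trans (StepsOk.trans (StepsOk.trans (StepsOk.trans (StepsOk.trans (StepsOk.trans (StepsOk.trans (StepsOk.trans (StepsOk.trans (StepsOk.trans (StepsOk.trans (StepsOk.trans (StepsOk.trans (StepsOk.trans (StepsOk.trans (StepsOk.trans (StepsOk.trans (StepsOk.trans (StepsOk.trans (StepsOk.trans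 (StepsOk.trans (StepsOk.trans (StepsOk.trans (StepsOk.trans (StepsOk.trans (StepsOk.trans (StepsOk.trans (StepsOk.trans (StepsOk.trans (StepsOk.trans (StepsOk.trans (StepsOk.trans (StepsOk.trans (StepsOk.trans (StepsOk.trans (StepsOk.trans (StepsOk.trans (StepsOk.trans (StepsOk.trans (StepsOk.trans (StepsOk.trans (StepsOk.trans (StepsOk.trans (StepsOk.trans (StepsOk.trans (StepsOk.trans (StepsOk.trans (StepsOk.trans (StepsOk.trans (StepsOk.trans (StepsOk.trans (StepsOk.trans (StepsOk.trans (StepsOk.trans (StepsOk.trans (StepsOk.trans (StepsOk.trans (StepsOk.trans (StepsOk.trans (StepsOk.trans (StepsOk.trans (StepsOk.trans (StepsOk.trans (StepsOk.trans (StepsOk.trans (StepsOk.trans (StepsOk.trans (StepsOk.trans (StepsOk.trans (StepsOk.trans (StepsOk.trans (StepsOk.trans (StepsOk.trans (StepsOk.trans (StepsOk.trans (StepsOk.trans (StepsOk.trans (StepsOk.trans (StepsOk.trans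 (StepsOk.trans (StepsOk.trans (StepsOk.trans (StepsOk.trans (StepsOk.trans (StepsOk.trans (StepsOk.trans (StepsOk.trans (StepsOk.trans (StepsOk.trans (StepsOk.trans (StepsOk.trans (StepsOk.trans (StepsOk.trans (StepsOk.trans (StepsOk.trans (StepsOk.trans (StepsOk.trans (StepsOk.trans (StepsOk.trans (StepsOk.trans (StepsOk.trans (StepsOk.trans (StepsOk.trans (StepsOk.trans (StepsOk.trans (StepsOk.trans (StepsOk.trans (StepsOk.trans (StepsOk.trans (StepsOk.trans (StepsOk.trans (StepsOk.trans (StepsOk.trans (StepsOk.trans (StepsOk.trans (StepsOk.trans (StepsOk.trans (StepsOk.trans (StepsOk.trans (StepsOk.trans (StepsOk.trans (StepsOk.trans (StepsOk.trans (StepsOk.trans (StepsOk.trans (StepsOk.trans (StepsOk.trans (StepsOk.trans (StepsOk.trans (StepsOk.trans (StepsOk.trans (StepsOk.trans (StepsOk.trans (StepsOk.trans (StepsOk.trans (StepsOk.trans (StepsOk.trans (StepsOk.trans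 (StepsOk.trans (StepsOk.trans (StepsOk.trans (StepsOk.trans (StepsOk.trans (StepsOk.trans (StepsOk.trans (StepsOk.trans (StepsOk.trans (StepsOk.trans (StepsOk.trans (StepsOk.trans (StepsOk.trans (StepsOk.trans (StepsOk.trans (StepsOk.trans (StepsOk.trans (StepsOk.trans (StepsOk.trans (StepsOk.trans (StepsOk.trans (StepsOk.trans (StepsOk.trans (StepsOk.trans (StepsOk.trans (StepsOk.trans (StepsOk.trans (StepsOk.trans (StepsOk.trans (StepsOk.trans (StepsOk.trans (StepsOk.trans (StepsOk.trans (StepsOk.trans (StepsOk.trans (StepsOk.trans (StepsOk.trans (StepsOk.trans (StepsOk.trans (StepsOk.trans (StepsOk.trans (StepsOk.trans (StepsOk.trans (StepsOk.trans (StepsOk.trans (StepsOk.trans (StepsOk.trans (StepsOk.trans (StepsOk.trans (StepsOk.trans (StepsOk.trans (StepsOk.trans (StepsOk.trans (StepsOk.trans (StepsOk.trans (StepsOk.trans (steps_sound' st0) (steps_sound' st1)) (steps_sound'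 st2)) (steps_sound' st3)) (steps_sound' st4)) (steps_sound' st5)) (steps_sound' st6)) (steps_sound' st7)) (steps_sound' st8)) (steps_sound' st9)) (steps_sound' st10)) (steps_sound' st11)) (steps_sound' st12)) (steps_sound' st13)) (steps_sound' st14)) (steps_sound' st15)) (steps_sound' st16)) (steps_sound' st17)) (steps_sound' st18)) (steps_sound' st19)) (steps_sound' st20)) (steps_sound' st21)) (steps_sound' st22)) (steps_sound' st23)) (steps_sound' st24)) (steps_sound' st25)) (steps_sound' st26)) (steps_sound' st27)) (steps_sound' st28)) (steps_sound' st29)) (steps_sound' st30)) (steps_sound' st31)) (steps_sound' st32)) (steps_sound' st33)) (steps_sound' st34)) (steps_sound' st35)) (steps_sound' st36)) (steps_sound' st37)) (steps_sound' st38)) (steps_sound' st39)) (steps_sound' st40)) (steps_sound' st41)) (steps_sound' st42)) (steps_sound' st43)) (steps_sound' st44)) (steps_sound'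 st45)) (steps_sound' st46)) (steps_sound' st47)) (steps_sound' st48)) (steps_sound' st49)) (steps_sound' st50)) (steps_sound' st51)) (steps_sound' st52)) (steps_sound' st53)) (steps_sound' st54)) (steps_sound' st55)) (steps_sound' st56)) (steps_sound' st57)) (steps_sound' st58)) (steps_sound' st59)) (steps_sound' st60)) (steps_sound' st61)) (steps_sound' st62)) (steps_sound' st63)) (steps_sound' st64)) (steps_sound' st65)) (steps_sound' st66)) (steps_sound' st67)) (steps_sound' st68)) (steps_sound' st69)) (steps_sound' st70)) (steps_sound' st71)) (steps_sound' st72)) (steps_sound' st73)) (steps_sound' st74)) (steps_sound' st75)) (steps_sound' st76)) (steps_sound' st77)) (steps_sound' st78)) (steps_sound' st79)) (steps_sound' st80)) (steps_sound' st81)) (steps_sound' st82)) (steps_sound' st83)) (steps_sound' st84)) (steps_sound' st85)) (steps_sound' st86)) (steps_sound' st87))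 (steps_sound' st88)) (steps_sound' st89)) (steps_sound' st90)) (steps_sound' st91)) (steps_sound' st92)) (steps_sound' st93)) (steps_sound' st94)) (steps_sound' st95)) (steps_sound' st96)) (steps_sound' st97)) (steps_sound' st98)) (steps_sound' st99)) (steps_sound' st100)) (steps_sound' st101)) (steps_sound' st102)) (steps_sound' st103)) (steps_sound' st104)) (steps_sound' st105)) (steps_sound' st106)) (steps_sound' st107)) (steps_sound' st108)) (steps_sound' st109)) (steps_sound' st110)) (steps_sound' st111)) (steps_sound' st112)) (steps_sound' st113)) (steps_sound' st114)) (steps_sound' st115)) (steps_sound' st116)) (steps_sound' st117)) (steps_sound' st118)) (steps_sound' st119)) (steps_sound' st120)) (steps_sound' st121)) (steps_sound' st122)) (steps_sound' st123)) (steps_sound' st124)) (steps_sound' st125)) (steps_sound' st126)) (steps_sound' st127)) (steps_sound' st128))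 (steps_sound' st129)) (steps_sound' st130)) (steps_sound' st131)) (steps_sound' st132)) (steps_sound' st133)) (steps_sound' st134)) (steps_sound' st135)) (steps_sound' st136)) (steps_sound' st137)) (steps_sound' st138)) (steps_sound' st139)) (steps_sound' st140)) (steps_sound' st141)) (steps_sound' st142)) (steps_sound' st143)) (steps_sound' st144)) (steps_sound' st145)) (steps_sound' st146)) (steps_sound' st147)) (steps_sound' st148)) (steps_sound' st149)) (steps_sound' st150)) (steps_sound' st151)) (steps_sound' st152)) (steps_sound' st153)) (steps_sound' st154)) (steps_sound' st155)) (steps_sound' st156)) (steps_sound' st157)) (steps_sound' st158)) (steps_sound' st159)) (steps_sound' st160)) (steps_sound' st161)) (steps_sound' st162)) (steps_sound' st163)) (steps_sound' st164)) (steps_sound' st165)) (steps_sound' st166)) (steps_sound' st167)) (steps_sound' st168)) (steps_sound'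 st169)) (steps_sound' st170)) (steps_sound' st171)) (steps_sound' st172)) (steps_sound' st173)) (steps_sound' st174)) (steps_sound' st175)) (steps_sound' st176)) (steps_sound' st177)) (steps_sound' st178)) (steps_sound' st179)) (steps_sound' st180)) (steps_sound' st181)) (steps_sound' st182)) (steps_sound' st183)) (steps_sound' st184)) (steps_sound' st185)) (steps_sound' st186)) (steps_sound' st187)) (steps_sound' st188)) (steps_sound' st189)) (steps_sound' st190)) (steps_sound' st191)) (steps_sound' st192)) (steps_sound' st193)) (steps_sound' st194)) (steps_sound' st195)) (steps_sound' st196)) (steps_sound' st197)) (steps_sound' st198)) (steps_sound' st199)) (steps_sound' st200)) (steps_sound' st201)) (steps_sound' st202)) (steps_sound' st203)) (steps_sound' st204)) (steps_sound' st205)) (steps_sound' st206)) (steps_sound' st207)) (steps_sound' st208)) (steps_sound' st209))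 (steps_sound' st210)) (steps_sound' st211)) (steps_sound' st212)) (steps_sound' st213)) (steps_sound' st214)) (steps_sound' st215)) (steps_sound' st216)) (steps_sound' st217)) (steps_sound' st218)) (steps_sound' st219)) (steps_sound' st220)) (steps_sound' st221)) (steps_sound' st222)) (steps_sound' st223)) (steps_sound' st224)) (steps_sound' st225)) (steps_sound' st226)) (steps_sound' st227)) (steps_sound' st228)) (steps_sound' st229)) (steps_sound' st230)) (steps_sound' st231)) (steps_sound' st232)) (steps_sound' st233)) (steps_sound' st234)) (steps_sound' st235)) (steps_sound' st236)) (steps_sound' st237)) (steps_sound' st238)) (steps_sound' st239)) (steps_sound' st240)) (steps_sound' st241)) (steps_sound' st242)) (steps_sound' st243)) (steps_sound' st244)) (steps_sound' st245)) (steps_sound' st246)) (steps_sound' st247)) (steps_sound' st248)) (steps_sound' st249)) (steps_sound'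 st250)) (steps_sound' st251)) (steps_sound' st252)) (steps_sound' st253)) (steps_sound' st254)) (steps_sound' st255)) (steps_sound' st256)) (steps_sound' st257)) (steps_sound' st258)) (steps_sound' st259)) (steps_sound' st260)) (steps_sound' st261)) (steps_sound' st262)) (steps_sound' st263)) (steps_sound' st264)) (steps_sound' st265)) (steps_sound' st266)) (steps_sound' st267)) (steps_sound' st268)) (steps_sound' st269)) (steps_sound' st270)) (steps_sound' st271)) (steps_sound' st272)) (steps_sound' st273)) (steps_sound' st274)) (steps_sound' st275)) (steps_sound' st276)) (steps_sound' st277)) (steps_sound' st278)) (steps_sound' st279)) (steps_sound' st280)) (steps_sound' st281)) (steps_sound' st282)) (steps_sound' st283)) (steps_sound' st284)) (steps_sound' st285)) (steps_sound' st286)) (steps_sound' st287)) (steps_sound' st288)) (steps_sound' st289)) (steps_sound' st290))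 (steps_sound' st291)) (steps_sound' st292)) (steps_sound' st293)) (steps_sound' st294)) (steps_sound' st295)) (steps_sound' st296)) (steps_sound' st297)) (steps_sound' st298)) (steps_sound' st299)) (steps_sound' st300)) (steps_sound' st301)) (steps_sound' st302)) (steps_sound' st303)) (steps_sound' st304)) (steps_sound' st305)) (steps_sound' st306)) (steps_sound' st307)) (steps_sound' st308)) (steps_sound' st309)) (steps_sound' st310)) (steps_sound' st311)) (steps_sound' st312)) (steps_sound' st313)) (steps_sound' st314)) (steps_sound' st315)) (steps_sound' st316)) (steps_sound' st317)) (steps_sound' st318)) (steps_sound' st319)) (steps_sound' st320)) (steps_sound' st321)) (steps_sound' st322)) (steps_sound' st323)) (steps_sound' st324)) (steps_sound' st325)) (steps_sound' st326)) (steps_sound' st327)) (steps_sound' st328)) (steps_sound' st329)) (steps_sound' st330)) (steps_sound'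 st331)) (steps_sound' st332)) (steps_sound' st333)) (steps_sound' st334)) (steps_sound' st335)) (steps_sound' st336)) (steps_sound' st337)) (steps_sound' st338)) (steps_sound' st339)) (steps_sound' st340)) (steps_sound' st341)) (steps_sound' st342)) (steps_sound' st343)) (steps_sound' st344)) (steps_sound' st345)) (steps_sound' st346)) (steps_sound' st347)) (steps_sound' st348)) (steps_sound' st349)) (steps_sound' st350)) (steps_sound' st351)) (steps_sound' st352)) (steps_sound' st353)) (steps_sound' st354)) (steps_sound' st355)) (steps_sound' st356)) (steps_sound' st357)) (steps_sound' st358)) (steps_sound' st359)) (steps_sound' st360)) (steps_sound' st361)) (steps_sound' st362)) (steps_sound' st363)) (steps_sound' st364)) (steps_sound' st365)) (steps_sound' st366)) (steps_sound' st367)) (steps_sound' st368)) (steps_sound' st369)) (steps_sound' st370)) (steps_sound' st371))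 (steps_sound' st372)) (steps_sound' st373)) (steps_sound' st374)) (steps_sound' st375)) (steps_sound' st376)) (steps_sound' st377)) (steps_sound' st378)) (steps_sound' st379)) (steps_sound' st380)) (steps_sound' st381)) (steps_sound' st382)) (steps_sound' st383)) (steps_sound' st384)) (steps_sound' st385)) (steps_sound' st386)) (steps_sound' st387)) (steps_sound' st388)) (steps_sound' st389)) (steps_sound' st390)) (steps_sound' st391)) (steps_sound' st392)) (steps_sound' st393)) (steps_sound' st394)) (steps_sound' st395)) (steps_sound' st396)) (steps_sound' st397)) (steps_sound' st398)) (steps_sound' st399)) (steps_sound' st400)) (steps_sound' st401)) (steps_sound' st402)) (steps_sound' st403)) (steps_sound' st404)) (steps_sound' st405)) (steps_sound' st406)) (steps_sound' st407)) (steps_sound' st408)) (steps_sound' st409)) (steps_sound' st410)) (steps_sound' st411)) (steps_sound'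 st412)) (steps_sound' st413)) (steps_sound' st414)) (steps_sound' st415)) (steps_sound' st416)) (steps_sound' st417)) (steps_sound' st418)) (steps_sound' st419)) (steps_sound' st420)) (steps_sound' st421)) (steps_sound' st422)) (steps_sound' st423)) (steps_sound' st424)) (steps_sound' st425)) (steps_sound' st426)) (steps_sound' st427)) (steps_sound' st428)) (steps_sound' st429)) (steps_sound' st430)) (steps_sound' st431)) (steps_sound' st432)) (steps_sound' st433)) (steps_sound' st434)) (steps_sound' st435)) (steps_sound' st436)) (steps_sound' st437)) (steps_sound' st438)) (steps_sound' st439)) (steps_sound' st440)) (steps_sound' st441)) (steps_sound' st442)) (steps_sound' st443)) (steps_sound' st444)) (steps_sound' st445)) (steps_sound' st446)) (steps_sound' st447)) (steps_sound' st448)) (steps_sound' st449)) (steps_sound' st450)) (steps_sound' st451)) (steps_sound' st452))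 (steps_sound' st453)) (steps_sound' st454)) (steps_sound' st455)) (steps_sound' st456)) (steps_sound' st457)) (steps_sound' st458)) (steps_sound' st459)) (steps_sound' st460)) (steps_sound' st461)) (steps_sound' st462)) (steps_sound' st463)) (steps_sound' st464)) (steps_sound' st465)) (steps_sound' st466)) (steps_sound' st467)) (steps_sound' st468)) (steps_sound' st469)) (steps_sound' st470)) (steps_sound' st471)) (steps_sound' st472)) (steps_sound' st473)) (steps_sound' st474)) (steps_sound' st475)) (steps_sound' st476)) (steps_sound' st477)) (steps_sound' st478)) (steps_sound' st479)) (steps_sound' st480)) (steps_sound' st481)) (steps_sound' st482)) (steps_sound' st483)) (steps_sound' st484)) (steps_sound' st485)) (steps_sound' st486)) (steps_sound' st487)) (steps_sound' st488)) (steps_sound' st489)) (steps_sound' st490)) (steps_sound' st491)) (steps_sound' st492)) (steps_sound'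 st493)) (steps_sound' st494)) (steps_sound' st495)) (steps_sound' st496)) (steps_sound' st497)) (steps_sound' st498)) (steps_sound' st499)) (steps_sound' st500)) (steps_sound' st501)) (steps_sound' st502)) (steps_sound' st503)) (steps_sound' st504)) (steps_sound' st505))

section
variable {G : Type} [Group G] {a : ℕ → G} (hi : IvOk (2 * 6) a) (hR : ∀ r ∈ RL, ev a r = 1)
  {H : Subgroup G} (hb : ∀ z ∈ base, letV a EX z ∈ H)
include hi hR hb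

theorem let1 : LetOk H (letV a EX) T L 1 :=
  LetOk.of hT tl1 cov1 (AllP.cons (Just.rot hT hi hR rot1_1 rot1_1r) (AllP.cons (Just.rot hT hi hR rot1_2 rot1_2r) (AllP.cons (Just.rot hT hi hR rot1_3 rot1_3r) (AllP.cons (Just.rot hT hi hR rot1_4 rot1_4r) (AllP.cons (Just.rot hT hi hR rot1_5 rot1_5r) (AllP.cons (Just.rot hT hi hR rot1_6 rot1_6r) (AllP.cons (Just.rot hT hi hR rot1_7 rot1_7r) (AllP.cons (Just.rot hT hi hR rot1_8 rot1_8r) (AllP.cons (Just.rot hT hi hR rot1_9 rot1_9r) (AllP.cons (Just.rot hT hi hR rot1_10 rot1_10r) (AllP.cons (Just.rot hT hi hR rot1_11 rot1_11r) (AllP.cons (Just.rot hT hi hR rot1_12 rot1_12r) (AllP.cons (Just.rot hT hi hR rot1_13 rot1_13r) (AllP.cons (Just.rot hT hi hR rot1_14 rot1_14r) (AllP.cons (Just.rot hT hi hR rot1_15 rot1_15r) (AllP.cons (Just.rot hT hi hR rot1_16 rot1_16r) (AllP.cons (Just.rot hT hi hR rot1_17 rot1_17r) (AllP.cons (Just.rot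 hT hi hR rot1_18 rot1_18r) (AllP.cons (Just.rot hT hi hR rot1_19 rot1_19r) (AllP.cons (Just.rot hT hi hR rot1_20 rot1_20r) (AllP.cons (Just.rot hT hi hR rot1_21 rot1_21r) (AllP.cons (Just.rot hT hi hR rot1_22 rot1_22r) (AllP.cons (Just.rot hT hi hR rot1_23 rot1_23r) (AllP.cons (Just.rot hT hi hR rot1_24 rot1_24r) (AllP.cons (Just.rot hT hi hR rot1_25 rot1_25r) (AllP.cons (Just.rot hT hi hR rot1_26 rot1_26r) (AllP.cons (Just.rot hT hi hR rot1_27 rot1_27r) (AllP.cons (Just.rot hT hi hR rot1_28 rot1_28r) (AllP.cons (Just.rot hT hi hR rot1_29 rot1_29r) (AllP.cons (Just.rot hT hi hR rot1_30 rot1_30r) (AllP.cons (Just.rot hT hi hR rot1_31 rot1_31r) (AllP.cons (Just.rot hT hi hR rot1_32 rot1_32r) (AllP.cons (Just.rot hT hi hR rot1_33 rot1_33r) (AllP.cons (Just.rot hT hi hR rot1_34 rot1_34r) (AllP.cons (Just.rot hT hi hR rot1_35 rot1_35r) (AllP.cons (Just.rot hT hi hR rot1_36 rot1_36r)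 (AllP.cons (Just.rot hT hi hR rot1_37 rot1_37r) (AllP.cons (Just.rot hT hi hR rot1_38 rot1_38r) (AllP.cons (Just.rot hT hi hR rot1_39 rot1_39r) (AllP.cons (Just.rot hT hi hR rot1_40 rot1_40r) (AllP.cons (Just.rot hT hi hR rot1_41 rot1_41r) (AllP.cons (Just.rot hT hi hR rot1_42 rot1_42r) (AllP.cons (Just.rot hT hi hR rot1_43 rot1_43r) (AllP.cons (Just.rot hT hi hR rot1_44 rot1_44r) (AllP.cons (Just.rot hT hi hR rot1_45 rot1_45r) (AllP.cons (Just.rot hT hi hR rot1_46 rot1_46r) (AllP.cons (Just.rot hT hi hR rot1_47 rot1_47r) (AllP.cons (Just.rot hT hi hR rot1_48 rot1_48r) (AllP.cons (Just.rot hT hi hR rot1_49 rot1_49r) (AllP.cons (Just.rot hT hi hR rot1_50 rot1_50r) (AllP.cons (Just.rot hT hi hR rot1_51 rot1_51r) (AllP.cons (Just.rot hT hi hR rot1_52 rot1_52r) (AllP.cons (Just.rot hT hi hR rot1_53 rot1_53r) (AllP.cons (Just.rot hT hi hR rot1_54 rot1_54r) (AllP.cons (Just.rot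 hT hi hR rot1_55 rot1_55r) (AllP.cons (Just.rot hT hi hR rot1_56 rot1_56r) (AllP.cons (Just.rot hT hi hR rot1_57 rot1_57r) (AllP.cons (Just.rot hT hi hR rot1_58 rot1_58r) (AllP.cons (Just.base (hb 1 (by decide))) (AllP.nil))))))))))))))))))))))))))))))))))))))))))))))))))))))))))))
theorem let2 : LetOk H (letV a EX) T L 2 :=
  LetOk.of hT tl2 cov2 (AllP.cons (Just.rot hT hi hR rot2_1 rot2_1r) (AllP.cons (Just.rot hT hi hR rot2_2 rot2_2r) (AllP.cons (Just.rot hT hi hR rot2_3 rot2_3r) (AllP.cons (Just.rot hT hi hR rot2_4 rot2_4r) (AllP.cons (Just.rot hT hi hR rot2_5 rot2_5r) (AllP.cons (Just.rot hT hi hR rot2_6 rot2_6r) (AllP.cons (Just.rot hT hi hR rot2_7 rot2_7r) (AllP.cons (Just.rot hT hi hR rot2_8 rot2_8r) (AllP.cons (Just.rot hT hi hR rot2_9 rot2_9r) (AllP.cons (Just.rot hT hi hR rot2_10 rot2_10r) (AllP.cons (Just.rot hT hi hR rot2_11 rot2_11r) (AllP.cons (Just.rot hT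 hi hR rot2_12 rot2_12r) (AllP.cons (Just.rot hT hi hR rot2_13 rot2_13r) (AllP.cons (Just.rot hT hi hR rot2_14 rot2_14r) (AllP.cons (Just.rot hT hi hR rot2_15 rot2_15r) (AllP.cons (Just.rot hT hi hR rot2_16 rot2_16r) (AllP.cons (Just.rot hT hi hR rot2_17 rot2_17r) (AllP.cons (Just.rot hT hi hR rot2_18 rot2_18r) (AllP.cons (Just.rot hT hi hR rot2_19 rot2_19r) (AllP.cons (Just.rot hT hi hR rot2_20 rot2_20r) (AllP.cons (Just.rot hT hi hR rot2_21 rot2_21r) (AllP.cons (Just.rot hT hi hR rot2_22 rot2_22r) (AllP.cons (Just.rot hT hi hR rot2_23 rot2_23r) (AllP.cons (Just.rot hT hi hR rot2_24 rot2_24r) (AllP.cons (Just.rot hT hi hR rot2_25 rot2_25r) (AllP.cons (Just.rot hT hi hR rot2_26 rot2_26r) (AllP.cons (Just.rot hT hi hR rot2_27 rot2_27r) (AllP.cons (Just.rot hT hi hR rot2_28 rot2_28r) (AllP.cons (Just.rot hT hi hR rot2_29 rot2_29r) (AllP.cons (Just.rot hT hi hR rot2_30 rot2_30r)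 (AllP.cons (Just.rot hT hi hR rot2_31 rot2_31r) (AllP.cons (Just.rot hT hi hR rot2_32 rot2_32r) (AllP.cons (Just.rot hT hi hR rot2_33 rot2_33r) (AllP.cons (Just.rot hT hi hR rot2_34 rot2_34r) (AllP.cons (Just.rot hT hi hR rot2_35 rot2_35r) (AllP.cons (Just.rot hT hi hR rot2_36 rot2_36r) (AllP.cons (Just.rot hT hi hR rot2_37 rot2_37r) (AllP.cons (Just.rot hT hi hR rot2_38 rot2_38r) (AllP.cons (Just.rot hT hi hR rot2_39 rot2_39r) (AllP.cons (Just.rot hT hi hR rot2_40 rot2_40r) (AllP.cons (Just.base (hb 2 (by decide))) (AllP.cons (Just.epi hT hi ep0a ep0b (seq_mem hi hR rfl hivk hrt H hb hdefs hst ep0c) ep0d) (AllP.cons (Just.epi hT hi ep2a ep2b (seq_mem hi hR rfl hivk hrt H hb hdefs hst ep2c) ep2d) (AllP.cons (Just.epi hT hi ep6a ep6b (seq_mem hi hR rfl hivk hrt H hb hdefs hst ep6c) ep6d) (AllP.cons (Just.epi hT hi ep7a ep7b (seq_mem hi hR rfl hivk hrt H hb hdefs hst ep7c)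 ep7d) (AllP.cons (Just.epi hT hi ep13a ep13b (seq_mem hi hR rfl hivk hrt H hb hdefs hst ep13c) ep13d) (AllP.nil)))))))))))))))))))))))))))))))))))))))))))))))
theorem let3 : LetOk H (letV a EX) T L 3 :=
  LetOk.of hT tl3 cov3 (AllP.cons (Just.rot hT hi hR rot3_1 rot3_1r) (AllP.cons (Just.rot hT hi hR rot3_2 rot3_2r) (AllP.cons (Just.rot hT hi hR rot3_3 rot3_3r) (AllP.cons (Just.rot hT hi hR rot3_4 rot3_4r) (AllP.cons (Just.rot hT hi hR rot3_5 rot3_5r) (AllP.cons (Just.rot hT hi hR rot3_6 rot3_6r) (AllP.cons (Just.rot hT hi hR rot3_7 rot3_7r) (AllP.cons (Just.rot hT hi hR rot3_8 rot3_8r) (AllP.cons (Just.rot hT hi hR rot3_9 rot3_9r) (AllP.cons (Just.rot hT hi hR rot3_10 rot3_10r) (AllP.cons (Just.rot hT hi hR rot3_11 rot3_11r) (AllP.cons (Just.rot hT hi hR rot3_12 rot3_12r) (AllP.cons (Just.rot hT hi hR rot3_13 rot3_13r) (AllP.cons (Just.rot hT hi hR rot3_14 rot3_14r) (AllP.cons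 (Just.rot hT hi hR rot3_15 rot3_15r) (AllP.cons (Just.rot hT hi hR rot3_16 rot3_16r) (AllP.cons (Just.rot hT hi hR rot3_17 rot3_17r) (AllP.cons (Just.rot hT hi hR rot3_18 rot3_18r) (AllP.cons (Just.rot hT hi hR rot3_19 rot3_19r) (AllP.cons (Just.rot hT hi hR rot3_20 rot3_20r) (AllP.cons (Just.rot hT hi hR rot3_21 rot3_21r) (AllP.cons (Just.rot hT hi hR rot3_22 rot3_22r) (AllP.cons (Just.rot hT hi hR rot3_23 rot3_23r) (AllP.cons (Just.rot hT hi hR rot3_24 rot3_24r) (AllP.cons (Just.rot hT hi hR rot3_25 rot3_25r) (AllP.cons (Just.rot hT hi hR rot3_26 rot3_26r) (AllP.cons (Just.rot hT hi hR rot3_27 rot3_27r) (AllP.cons (Just.rot hT hi hR rot3_28 rot3_28r) (AllP.cons (Just.rot hT hi hR rot3_29 rot3_29r) (AllP.cons (Just.rot hT hi hR rot3_30 rot3_30r) (AllP.cons (Just.rot hT hi hR rot3_31 rot3_31r) (AllP.cons (Just.rot hT hi hR rot3_32 rot3_32r) (AllP.cons (Just.rot hT hi hR rot3_33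 rot3_33r) (AllP.cons (Just.rot hT hi hR rot3_34 rot3_34r) (AllP.cons (Just.rot hT hi hR rot3_35 rot3_35r) (AllP.cons (Just.rot hT hi hR rot3_36 rot3_36r) (AllP.cons (Just.rot hT hi hR rot3_37 rot3_37r) (AllP.cons (Just.rot hT hi hR rot3_38 rot3_38r) (AllP.cons (Just.rot hT hi hR rot3_39 rot3_39r) (AllP.cons (Just.rot hT hi hR rot3_40 rot3_40r) (AllP.cons (Just.rot hT hi hR rot3_41 rot3_41r) (AllP.cons (Just.rot hT hi hR rot3_42 rot3_42r) (AllP.cons (Just.rot hT hi hR rot3_43 rot3_43r) (AllP.cons (Just.rot hT hi hR rot3_44 rot3_44r) (AllP.cons (Just.base (hb 3 (by decide))) (AllP.nil))))))))))))))))))))))))))))))))))))))))))))))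
theorem let4 : LetOk H (letV a EX) T L 4 :=
  LetOk.of hT tl4 cov4 (AllP.cons (Just.rot hT hi hR rot4_1 rot4_1r) (AllP.cons (Just.rot hT hi hR rot4_2 rot4_2r) (AllP.cons (Just.rot hT hi hR rot4_3 rot4_3r) (AllP.cons (Just.rot hT hi hR rot4_4 rot4_4r) (AllP.cons (Just.rot hT hi hR rot4_5 rot4_5r) (AllP.cons (Just.rot hT hi hR rot4_6 rot4_6r) (AllP.cons (Just.rot hT hi hR rot4_7 rot4_7r) (AllP.cons (Just.rot hT hi hR rot4_8 rot4_8r) (AllP.cons (Just.rot hT hi hR rot4_9 rot4_9r) (AllP.cons (Just.rot hT hi hR rot4_10 rot4_10r) (AllP.cons (Just.rot hT hi hR rot4_11 rot4_11r) (AllP.cons (Just.rot hT hi hR rot4_12 rot4_12r) (AllP.cons (Just.rot hT hi hR rot4_13 rot4_13r) (AllP.cons (Just.rot hT hi hR rot4_14 rot4_14r) (AllP.cons (Just.rot hT hi hR rot4_15 rot4_15r) (AllP.cons (Just.rot hT hi hR rot4_16 rot4_16r) (AllP.cons (Just.rot hT hi hR rot4_17 rot4_17r) (AllP.cons (Just.rot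 hT hi hR rot4_18 rot4_18r) (AllP.cons (Just.rot hT hi hR rot4_19 rot4_19r) (AllP.cons (Just.rot hT hi hR rot4_20 rot4_20r) (AllP.cons (Just.rot hT hi hR rot4_21 rot4_21r) (AllP.cons (Just.rot hT hi hR rot4_22 rot4_22r) (AllP.cons (Just.base (hb 4 (by decide))) (AllP.cons (Just.epi hT hi ep8a ep8b (seq_mem hi hR rfl hivk hrt H hb hdefs hst ep8c) ep8d) (AllP.cons (Just.epi hT hi ep10a ep10b (seq_mem hi hR rfl hivk hrt H hb hdefs hst ep10c) ep10d) (AllP.nil))))))))))))))))))))))))))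
theorem let5 : LetOk H (letV a EX) T L 5 :=
  LetOk.of hT tl5 cov5 (AllP.cons (Just.rot hT hi hR rot5_1 rot5_1r) (AllP.cons (Just.rot hT hi hR rot5_2 rot5_2r) (AllP.cons (Just.rot hT hi hR rot5_3 rot5_3r) (AllP.cons (Just.rot hT hi hR rot5_4 rot5_4r) (AllP.cons (Just.rot hT hi hR rot5_5 rot5_5r) (AllP.cons (Just.rot hT hi hR rot5_6 rot5_6r) (AllP.cons (Just.rot hT hi hR rot5_7 rot5_7r) (AllP.cons (Just.rot hT hi hR rot5_8 rot5_8r) (AllP.cons (Just.rot hT hi hR rot5_9 rot5_9r) (AllP.cons (Just.rot hT hi hR rot5_10 rot5_10r) (AllP.cons (Just.rot hT hi hR rot5_11 rot5_11r) (AllP.cons (Just.rot hT hi hR rot5_12 rot5_12r) (AllP.cons (Just.rot hT hi hR rot5_13 rot5_13r) (AllP.cons (Just.rot hT hi hR rot5_14 rot5_14r) (AllP.cons (Just.rot hT hi hR rot5_15 rot5_15r) (AllP.cons (Just.rot hT hi hR rot5_16 rot5_16r) (AllP.cons (Just.rot hT hi hR rot5_17 rot5_17r) (AllP.cons (Just.rot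 hT hi hR rot5_18 rot5_18r) (AllP.cons (Just.rot hT hi hR rot5_19 rot5_19r) (AllP.cons (Just.epi hT hi ep1a ep1b (seq_mem hi hR rfl hivk hrt H hb hdefs hst ep1c) ep1d) (AllP.cons (Just.epi hT hi ep4a ep4b (seq_mem hi hR rfl hivk hrt H hb hdefs hst ep4c) ep4d) (AllP.cons (Just.epi hT hi ep5a ep5b (seq_mem hi hR rfl hivk hrt H hb hdefs hst ep5c) ep5d) (AllP.cons (Just.epi hT hi ep9a ep9b (seq_mem hi hR rfl hivk hrt H hb hdefs hst ep9c) ep9d) (AllP.cons (Just.epi hT hi ep11a ep11b (seq_mem hi hR rfl hivk hrt H hb hdefs hst ep11c) ep11d) (AllP.cons (Just.epi hT hi ep12a ep12b (seq_mem hi hR rfl hivk hrt H hb hdefs hst ep12c) ep12d) (AllP.nil))))))))))))))))))))))))))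
theorem let6 : LetOk H (letV a EX) T L 6 :=
  LetOk.of hT tl6 cov6 (AllP.cons (Just.rot hT hi hR rot6_1 rot6_1r) (AllP.cons (Just.rot hT hi hR rot6_2 rot6_2r) (AllP.cons (Just.rot hT hi hR rot6_3 rot6_3r) (AllP.cons (Just.rot hT hi hR rot6_4 rot6_4r) (AllP.cons (Just.rot hT hi hR rot6_5 rot6_5r) (AllP.cons (Just.rot hT hi hR rot6_6 rot6_6r) (AllP.cons (Just.rot hT hi hR rot6_7 rot6_7r) (AllP.cons (Just.rot hT hi hR rot6_8 rot6_8r) (AllP.cons (Just.rot hT hi hR rot6_9 rot6_9r) (AllP.cons (Just.rot hT hi hR rot6_10 rot6_10r) (AllP.cons (Just.rot hT hi hR rot6_11 rot6_11r) (AllP.cons (Just.rot hT hi hR rot6_12 rot6_12r) (AllP.cons (Just.rot hT hi hR rot6_13 rot6_13r) (AllP.cons (Just.rot hT hi hR rot6_14 rot6_14r) (AllP.cons (Just.rot hT hi hR rot6_15 rot6_15r) (AllP.cons (Just.rot hT hi hR rot6_16 rot6_16r) (AllP.cons (Just.rot hT hi hR rot6_17 rot6_17r) (AllP.cons (Just.rot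 hT hi hR rot6_18 rot6_18r) (AllP.cons (Just.rot hT hi hR rot6_19 rot6_19r) (AllP.cons (Just.base (hb 6 (by decide))) (AllP.cons (Just.epi hT hi ep3a ep3b (seq_mem hi hR rfl hivk hrt H hb hdefs hst ep3c) ep3d) (AllP.cons (Just.epi hT hi ep14a ep14b (seq_mem hi hR rfl hivk hrt H hb hdefs hst ep14c) ep14d) (AllP.nil)))))))))))))))))))))))
theorem hlet : AllP (LetOk H (letV a EX) T L) L :=
  show AllP (LetOk H (letV a EX) T L) [1, 2, 3, 4, 5, 6] from AllP.cons (let1 hi hR hb) (AllP.cons (let2 hi hR hb) (AllP.cons (let3 hi hR hb) (AllP.cons (let4 hi hR hb) (AllP.cons (let5 hi hR hb) (AllP.cons (let6 hi hR hb) (AllP.nil))))))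
end

theorem cert : Cert 6 6 RL BW fP 5775 :=
  Cert.of hT ⟨hsq, hrel⟩ hPZ (fun _ _ _ hi hR _ hb => hlet hi hR hb) hcov hg (by decide +kernel)

end Cfsg.Agent.Spor.HYg
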