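import Cfsg.Agent.Spor.HYg.D0

set_option autoImplicit false
set_option maxRecDepth 100000000
set_option Elab.async false

namespace Cfsg.Agent.Spor.HYg

noncomputable def dfr (F a n : Nat) : Bool := Nat.rec true (fun i ih => band (defF (Nat.add a i) (fact F (Nat.add a i))) ih) n
theorem dfr_s {F a n m : Nat} (h : defs F a = true) (k : dfr F a n = true) (e : m = a + n) : defs F m = true := by
  subst e
  induction n with
  | zero => exact h
  | succ n ih =>
    have k' : band (defF (a + n) (fact F (a + n))) (dfr F a n) = true := k
    show band (defF (a + n) (fact F (a + n))) (defs F (a + n)) = true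
    cases e1 : defF (a + n) (fact F (a + n)) <;> rw [e1] at k'
    · exact Bool.noConfusion k'
    · exact ih k'
theorem hd0 : defs F 0 = true := rfl
theorem hd1 : defs F 1000 = true := dfr_s hd0 (n := 1000) (by decide +kernel) rfl
theorem hd2 : defs F 2000 = true := dfr_s hd1 (n := 1000) (by decide +kernel) rfl
theorem hd3 : defs F 3000 = true := dfr_s hd2 (n := 1000) (by decide +kernel) rfl
theorem hd4 : defs F 4000 = true := dfr_s hd3 (n := 1000) (by decide +kernel) rfl
theorem hd5 : defs F 5000 = true := dfr_s hd4 (n := 1000) (by decide +kernel) rfl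
theorem hd6 : defs F 6000 = true := dfr_s hd5 (n := 1000) (by decide +kernel) rfl
theorem hd7 : defs F 7000 = true := dfr_s hd6 (n := 1000) (by decide +kernel) rfl
theorem hd8 : defs F 8000 = true := dfr_s hd7 (n := 1000) (by decide +kernel) rfl
theorem hd9 : defs F 9000 = true := dfr_s hd8 (n := 1000) (by decide +kernel) rfl
theorem hd10 : defs F 10000 = true := dfr_s hd9 (n := 1000) (by decide +kernel) rfl
theorem hd11 : defs F 11000 = true := dfr_s hd10 (n := 1000) (by decide +kernel) rfl
theorem hd12 : defs F 12000 = true := dfr_s hd11 (n := 1000) (by decide +kernel) rfl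
theorem hd13 : defs F 13000 = true := dfr_s hd12 (n := 1000) (by decide +kernel) rfl
theorem hd14 : defs F 14000 = true := dfr_s hd13 (n := 1000) (by decide +kernel) rfl
theorem hd15 : defs F 15000 = true := dfr_s hd14 (n := 1000) (by decide +kernel) rfl
theorem hd16 : defs F 16000 = true := dfr_s hd15 (n := 1000) (by decide +kernel) rfl
theorem hd17 : defs F 17000 = true := dfr_s hd16 (n := 1000) (by decide +kernel) rfl
theorem hd18 : defs F 18000 = true := dfr_s hd17 (n := 1000) (by decide +kernel) rfl
theorem hd19 : defs F 19000 = true := dfr_s hd18 (n := 1000) (by decide +kernel) rfl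
theorem hd20 : defs F 20000 = true := dfr_s hd19 (n := 1000) (by decide +kernel) rfl
theorem hd21 : defs F 21000 = true := dfr_s hd20 (n := 1000) (by decide +kernel) rfl
theorem hd22 : defs F 22000 = true := dfr_s hd21 (n := 1000) (by decide +kernel) rfl
theorem hd23 : defs F 23000 = true := dfr_s hd22 (n := 1000) (by decide +kernel) rfl
theorem hd24 : defs F 24000 = true := dfr_s hd23 (n := 1000) (by decide +kernel) rfl
theorem hd25 : defs F 25000 = true := dfr_s hd24 (n := 1000) (by decide +kernel) rfl
theorem hd26 : defs F 26000 = true := dfr_s hd25 (n := 1000) (by decide +kernel) rfl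
theorem hd27 : defs F 27000 = true := dfr_s hd26 (n := 1000) (by decide +kernel) rfl
theorem hd28 : defs F 28000 = true := dfr_s hd27 (n := 1000) (by decide +kernel) rfl
theorem hd29 : defs F 29000 = true := dfr_s hd28 (n := 1000) (by decide +kernel) rfl
theorem hd30 : defs F 30000 = true := dfr_s hd29 (n := 1000) (by decide +kernel) rfl
theorem hd31 : defs F 31000 = true := dfr_s hd30 (n := 1000) (by decide +kernel) rfl
theorem hd32 : defs F 32000 = true := dfr_s hd31 (n := 1000) (by decide +kernel) rfl
theorem hd33 : defs F 33000 = true := dfr_s hd32 (n := 1000) (by decide +kernel) rfl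
theorem hd34 : defs F 34000 = true := dfr_s hd33 (n := 1000) (by decide +kernel) rfl
theorem hd35 : defs F 35000 = true := dfr_s hd34 (n := 1000) (by decide +kernel) rfl
theorem hd36 : defs F 36000 = true := dfr_s hd35 (n := 1000) (by decide +kernel) rfl
theorem hd37 : defs F 37000 = true := dfr_s hd36 (n := 1000) (by decide +kernel) rfl
theorem hd38 : defs F 38000 = true := dfr_s hd37 (n := 1000) (by decide +kernel) rfl
theorem hd39 : defs F 39000 = true := dfr_s hd38 (n := 1000) (by decide +kernel) rfl
theorem hd40 : defs F 40000 = true := dfr_s hd39 (n := 1000) (by decide +kernel) rfl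
theorem hd41 : defs F 41000 = true := dfr_s hd40 (n := 1000) (by decide +kernel) rfl
theorem hd42 : defs F 42000 = true := dfr_s hd41 (n := 1000) (by decide +kernel) rfl
theorem hd43 : defs F 43000 = true := dfr_s hd42 (n := 1000) (by decide +kernel) rfl
theorem hd44 : defs F 44000 = true := dfr_s hd43 (n := 1000) (by decide +kernel) rfl
theorem hd45 : defs F 45000 = true := dfr_s hd44 (n := 1000) (by decide +kernel) rfl
theorem hd46 : defs F 46000 = true := dfr_s hd45 (n := 1000) (by decide +kernel) rfl
theorem hd47 : defs F 47000 = true := dfr_s hd46 (n := 1000) (by decide +kernel) rfl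
theorem hd48 : defs F 48000 = true := dfr_s hd47 (n := 1000) (by decide +kernel) rfl
theorem hd49 : defs F 49000 = true := dfr_s hd48 (n := 1000) (by decide +kernel) rfl
theorem hd50 : defs F 50000 = true := dfr_s hd49 (n := 1000) (by decide +kernel) rfl
theorem hd51 : defs F 51000 = true := dfr_s hd50 (n := 1000) (by decide +kernel) rfl
theorem hd52 : defs F 52000 = true := dfr_s hd51 (n := 1000) (by decide +kernel) rfl
theorem hd53 : defs F 53000 = true := dfr_s hd52 (n := 1000) (by decide +kernel) rfl
theorem hd54 : defs F 54000 = true := dfr_s hd53 (n := 1000) (by decide +kernel) rfl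
theorem hd55 : defs F 55000 = true := dfr_s hd54 (n := 1000) (by decide +kernel) rfl
theorem hd56 : defs F 56000 = true := dfr_s hd55 (n := 1000) (by decide +kernel) rfl
theorem hd57 : defs F 57000 = true := dfr_s hd56 (n := 1000) (by decide +kernel) rfl
theorem hd58 : defs F 58000 = true := dfr_s hd57 (n := 1000) (by decide +kernel) rfl
theorem hd59 : defs F 59000 = true := dfr_s hd58 (n := 1000) (by decide +kernel) rfl
theorem hd60 : defs F 60000 = true := dfr_s hd59 (n := 1000) (by decide +kernel) rfl
theorem hd61 : defs F 61000 = true := dfr_s hd60 (n := 1000) (by decide +kernel) rfl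
theorem hd62 : defs F 62000 = true := dfr_s hd61 (n := 1000) (by decide +kernel) rfl
theorem hd63 : defs F 63000 = true := dfr_s hd62 (n := 1000) (by decide +kernel) rfl
theorem hd64 : defs F 64000 = true := dfr_s hd63 (n := 1000) (by decide +kernel) rfl
theorem hd65 : defs F 65000 = true := dfr_s hd64 (n := 1000) (by decide +kernel) rfl
theorem hd66 : defs F 66000 = true := dfr_s hd65 (n := 1000) (by decide +kernel) rfl
theorem hd67 : defs F 67000 = true := dfr_s hd66 (n := 1000) (by decide +kernel) rfl
theorem hd68 : defs F 68000 = true := dfr_s hd67 (n := 1000) (by decide +kernel) rfl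
theorem hd69 : defs F 69000 = true := dfr_s hd68 (n := 1000) (by decide +kernel) rfl
theorem hd70 : defs F 70000 = true := dfr_s hd69 (n := 1000) (by decide +kernel) rfl
theorem hd71 : defs F 71000 = true := dfr_s hd70 (n := 1000) (by decide +kernel) rfl
theorem hd72 : defs F 72000 = true := dfr_s hd71 (n := 1000) (by decide +kernel) rfl
theorem hd73 : defs F 73000 = true := dfr_s hd72 (n := 1000) (by decide +kernel) rfl
theorem hd74 : defs F 74000 = true := dfr_s hd73 (n := 1000) (by decide +kernel) rfl
theorem hd75 : defs F 75000 = true := dfr_s hd74 (n := 1000) (by decide +kernel) rfl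
theorem hd76 : defs F 76000 = true := dfr_s hd75 (n := 1000) (by decide +kernel) rfl
theorem hd77 : defs F 77000 = true := dfr_s hd76 (n := 1000) (by decide +kernel) rfl
theorem hd78 : defs F 78000 = true := dfr_s hd77 (n := 1000) (by decide +kernel) rfl
theorem hd79 : defs F 79000 = true := dfr_s hd78 (n := 1000) (by decide +kernel) rfl
theorem hd80 : defs F 80000 = true := dfr_s hd79 (n := 1000) (by decide +kernel) rfl
theorem hd81 : defs F 81000 = true := dfr_s hd80 (n := 1000) (by decide +kernel) rfl
theorem hd82 : defs F 82000 = true := dfr_s hd81 (n := 1000) (by decide +kernel) rfl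
theorem hd83 : defs F 83000 = true := dfr_s hd82 (n := 1000) (by decide +kernel) rfl
theorem hd84 : defs F 84000 = true := dfr_s hd83 (n := 1000) (by decide +kernel) rfl
theorem hd85 : defs F 85000 = true := dfr_s hd84 (n := 1000) (by decide +kernel) rfl
theorem hd86 : defs F 86000 = true := dfr_s hd85 (n := 1000) (by decide +kernel) rfl
theorem hd87 : defs F 87000 = true := dfr_s hd86 (n := 1000) (by decide +kernel) rfl
theorem hd88 : defs F 88000 = true := dfr_s hd87 (n := 1000) (by decide +kernel) rfl
theorem hd89 : defs F 89000 = true := dfr_s hd88 (n := 1000) (by decide +kernel) rfl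
theorem hd90 : defs F 90000 = true := dfr_s hd89 (n := 1000) (by decide +kernel) rfl
theorem hd91 : defs F 91000 = true := dfr_s hd90 (n := 1000) (by decide +kernel) rfl
theorem hd92 : defs F 92000 = true := dfr_s hd91 (n := 1000) (by decide +kernel) rfl
theorem hd93 : defs F 93000 = true := dfr_s hd92 (n := 1000) (by decide +kernel) rfl
theorem hd94 : defs F 94000 = true := dfr_s hd93 (n := 1000) (by decide +kernel) rfl
theorem hd95 : defs F 95000 = true := dfr_s hd94 (n := 1000) (by decide +kernel) rfl
theorem hd96 : defs F 96000 = true := dfr_s hd95 (n := 1000) (by decide +kernel) rfl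
theorem hd97 : defs F 97000 = true := dfr_s hd96 (n := 1000) (by decide +kernel) rfl
theorem hd98 : defs F 98000 = true := dfr_s hd97 (n := 1000) (by decide +kernel) rfl
theorem hd99 : defs F 99000 = true := dfr_s hd98 (n := 1000) (by decide +kernel) rfl
theorem hd100 : defs F 100000 = true := dfr_s hd99 (n := 1000) (by decide +kernel) rfl
theorem hd101 : defs F 101000 = true := dfr_s hd100 (n := 1000) (by decide +kernel) rfl
theorem hd102 : defs F 102000 = true := dfr_s hd101 (n := 1000) (by decide +kernel) rfl
theorem hd103 : defs F 102072 = true := dfr_s hd102 (n := 72) (by decide +kernel) rfl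
theorem hdefs : defs F 102072 = true := hd103

end Cfsg.Agent.Spor.HYg
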